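import Cfsg.Agent.H892.SUCov.Config
import Cfsg.Agent.H321.SpecEven.LFacts
import Cfsg.Agent.H373.Recog
import Cfsg.Agent.S0283

/-!
# Covers of `PSU_n(3)`, `4 ∣ n`, in characteristic different from three (helper892)

* `exists_sum_ne_zero` : `PSU_{2m}(q)` acting nontrivially on a `w`-module, `w` not the characteristic: the sum of the
  powers of the torus element `c`, `orderOf c * (gcd n (q + 1) * (q + 1)) = q ^ n - 1`, is not zero;
* `cov_ne_three` : covers of `PSU_n(3)` in characteristic `w ≠ 3`.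
-/

set_option autoImplicit false

namespace Cfsg.Agent.H892.SUCov

open Cfsg Finset Cfsg.Agent.H403 Cfsg.Agent.H403.NumTop

section act

variable {L : Type*} [Group L] {V : Type*} [AddCommGroup V]

/-- an action by additive endomorphisms is an action by automorphisms -/
def toAut (φ : L →* AddMonoid.End V) : L →* MulAut (Multiplicative V) where
  toFun g :=
    { toFun := fun v => Multiplicative.ofAdd (φ g v.toAdd)
      invFun := fun v => Multiplicative.ofAdd (φ g⁻¹ v.toAdd)
      left_inv := fun v => by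
        have h : φ g⁻¹ (φ g v.toAdd) = (φ (g⁻¹ * g)) v.toAdd := by rw [map_mul]; rfl
        show Multiplicative.ofAdd (φ g⁻¹ (φ g v.toAdd)) = v
        rw [h, inv_mul_cancel, map_one]
        rfl
      right_inv := fun v => by
        have h : φ g (φ g⁻¹ v.toAdd) = (φ (g * g⁻¹)) v.toAdd := by rw [map_mul]; rfl
        show Multiplicative.ofAdd (φ g (φ g⁻¹ v.toAdd)) = v
        rw [h, mul_inv_cancel, map_one]
        rfl
      map_mul' := fun a b => by
        show Multiplicative.ofAdd (φ g (a.toAdd + b.toAdd)) = _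
        rw [map_add]
        rfl }
  map_one' := by
    apply MulEquiv.ext
    intro v
    show Multiplicative.ofAdd (φ 1 v.toAdd) = v
    rw [map_one]
    rfl
  map_mul' a b := by
    apply MulEquiv.ext
    intro v
    show Multiplicative.ofAdd (φ (a * b) v.toAdd) = Multiplicative.ofAdd (φ a (φ b v.toAdd))
    rw [map_mul]
    rfl

theorem toAut_apply (φ : L →* AddMonoid.End V) (g : L) (v : V) :
    toAut φ g (Multiplicative.ofAdd v) = Multiplicative.ofAdd (φ g v) := rfl

/-- **Frobenius groups on modules**: additive form of `H371.Frob.trivial_of_norm`. -/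
theorem exists_sum_ne_zero_of_frob [Finite L] {w : ℕ} (hV : ∀ v : V, w • v = 0) (φ : L →* AddMonoid.End V)
    (U : Subgroup L) (c : L) (hn : ∀ a ∈ U, ∀ i : ℕ, (c ^ i)⁻¹ * a * c ^ i ∈ U)
    (hfix : ∀ i, 0 < i → i < orderOf c → ∀ a ∈ U, c ^ i * a = a * c ^ i → a = 1)
    (hcop : (Nat.card U).Coprime w) (h : ∃ a ∈ U, φ a ≠ 1) :
    ∃ v : V, ∑ i ∈ range (orderOf c), φ (c ^ i) v ≠ 0 := by
  by_contra hcon
  push Not at hcon
  obtain ⟨a, haU, ha⟩ := h
  apply ha
  have h1 := Cfsg.Agent.H371.Frob.trivial_of_norm (toAut φ) U (c := c) (m := orderOf c) (e := w) (orderOf_pos c)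
    hn hfix (fun v => by
      apply Multiplicative.toAdd.injective
      rw [toAdd_pow, toAdd_one, hV]) hcop (fun v => by
      have h2 : ∀ s : Finset ℕ, ∏ i ∈ s, (toAut φ) (c ^ i) v = Multiplicative.ofAdd (∑ i ∈ s, φ (c ^ i) v.toAdd) := by
        intro s
        rw [ofAdd_sum]
        rfl
      rw [h2, hcon, ofAdd_zero]) a haU
  apply AddMonoidHom.ext
  intro v
  have h2 := h1 (Multiplicative.ofAdd v)
  rw [toAut_apply] at h2
  exact Multiplicative.ofAdd.injective h2

/-- the kernel of an action of a simple group -/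
theorem trivial_of_simple [IsSimpleGroup L] (φ : L →* AddMonoid.End V) {a : L} (ha : a ≠ 1) (h : φ a = 1) (g : L) :
    φ g = 1 := by
  let K : Subgroup L :=
    { carrier := {g | φ g = 1}
      one_mem' := map_one φ
      mul_mem' := fun {a b} ha hb => by
        show φ (a * b) = 1
        rw [map_mul, show φ a = 1 from ha, show φ b = 1 from hb, one_mul]
      inv_mem' := fun {a} ha => by
        show φ a⁻¹ = 1
        have h : φ a⁻¹ * φ a = 1 := by rw [← map_mul, inv_mul_cancel, map_one]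
        rwa [show φ a = 1 from ha, mul_one] at h }
  have hK : K.Normal := ⟨fun a ha g => by
    show φ (g * a * g⁻¹) = 1
    rw [map_mul, map_mul, show φ a = 1 from ha, mul_one, ← map_mul, mul_inv_cancel, map_one]⟩
  rcases hK.eq_bot_or_eq_top with h1 | h1
  · exfalso
    have h2 : a ∈ K := h
    rw [h1, Subgroup.mem_bot] at h2
    exact ha h2
  · have h2 : g ∈ K := by rw [h1]; trivial
    exact h2

end act

section psu

variable {F : Type*} [Field F] [Fintype F]

/-- **The torus of order `(q ^ n - 1) / ((q + 1) gcd (n, q + 1))` has a regular orbit sum.** -/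
theorem exists_sum_ne_zero {q n m p w : ℕ} (hF : Fintype.card F = q ^ 2) (hn : n = 2 * m) (hm : 2 ≤ m) (hp : p.Prime)
    (hpq : p ∣ q) (hw : w.Prime) (hwp : w ≠ p) :
    ∃ c : PSU n F q, orderOf c * (Nat.gcd n (q + 1) * (q + 1)) = q ^ n - 1 ∧
      ∀ {V : Type*} [AddCommGroup V] (_ : ∀ v : V, w • v = 0) (φ : PSU n F q →* AddMonoid.End V),
        (∃ g, φ g ≠ 1) → ∃ v : V, ∑ i ∈ range (orderOf c), φ (c ^ i) v ≠ 0 := by
  obtain ⟨U, c, hU, hUp, hnorm, hfix, hc⟩ := exists_config hF hn hm hp hpq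
  have hs : IsSimpleGroup (PSU n F q) := S0283.result hF n (by omega) (by omega)
  refine ⟨c, hc, fun {V} _ hV φ hφ => ?_⟩
  have := Fact.mk hp
  have hcop : (Nat.card U).Coprime w := by
    obtain ⟨k, hk⟩ := (IsPGroup.iff_card).1 hUp
    rw [hk]
    exact Nat.Coprime.pow_left _ ((Nat.coprime_primes hp hw).2 (Ne.symm hwp))
  refine exists_sum_ne_zero_of_frob hV φ U c hnorm hfix hcop ?_
  obtain ⟨a, ha⟩ := (Subgroup.ne_bot_iff_exists_ne_one).1 hU
  refine ⟨a, a.2, fun h => ?_⟩
  obtain ⟨g, hg⟩ := hφ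
  exact hg (trivial_of_simple φ (a := (a : PSU n F q)) (fun h1 => ha (Subtype.ext h1)) h g)

/-- the case of `PSU_n(3)`, numbers -/
theorem two_part {n : ℕ} (h4 : 4 ∣ n) (h8 : ¬ 8 ∣ n) : ¬ 32 ∣ 3 ^ n - 1 := by
  obtain ⟨k, rfl⟩ := h4
  have hk : k % 2 = 1 := by omega
  obtain ⟨j, rfl⟩ : ∃ j, k = 2 * j + 1 := ⟨k / 2, by omega⟩
  intro h
  have h1 : 1 ≡ 3 ^ (4 * (2 * j + 1)) [MOD 32] := (Nat.modEq_iff_dvd' (Nat.one_le_pow _ _ (by norm_num))).2 h
  have h2 : 3 ^ (4 * (2 * j + 1)) ≡ 17 [MOD 32] := by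
    have h3 : 3 ^ (4 * (2 * j + 1)) = (3 ^ 8) ^ j * 3 ^ 4 := by rw [← pow_mul, ← pow_add]; congr 1; ring
    rw [h3]
    have h4 : (3 ^ 8) ^ j ≡ 1 ^ j [MOD 32] := Nat.ModEq.pow j (by decide)
    rw [one_pow] at h4
    exact h4.mul (by decide : 3 ^ 4 ≡ 17 [MOD 32])
  have h3 := h1.trans h2
  exact absurd h3 (by decide)

theorem cov_ne_three {n : ℕ} (hF : Fintype.card F = 9) (hn : 12 ≤ n) (h4 : 4 ∣ n)
    (h8 : ¬ 8 ∣ n) {w : ℕ} (hw : w.Prime) (hw3 : w ≠ 3) {V : Type*} [AddCommGroup V] [Finite V] [Nontrivial V]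
    (hV : ∀ v : V, w • v = 0) (φ : Cfsg.PSU n F 3 →* AddMonoid.End V) :
    ∃ (x : Cfsg.PSU n F 3) (v : V), ∑ i ∈ Finset.range (orderOf x), φ (x ^ i) v ≠ 0 ∧
      ¬ ∃ y : Cfsg.PSU n F 3, orderOf y = w * orderOf x := by
  have hF' : Fintype.card F = 3 ^ 2 := by rw [hF]; norm_num
  obtain ⟨m, hm⟩ : ∃ m, n = 2 * m := ⟨n / 2, by omega⟩
  obtain ⟨c, hc, hcov⟩ := exists_sum_ne_zero (w := w) hF' hm (by omega) Nat.prime_three (dvd_refl 3) hw hw3
  have hL : IsL (PSU n F 3) false n 3 F := ⟨MulEquiv.refl _⟩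
  have hF2 : Fintype.card F = 3 ^ (cond false 0 1 + 1) := by simpa using hF'
  have hlin := hL.lin (E := AlgebraicClosure F) hF2 (by omega)
  have hA1 : AA false 1 3 = 4 := by decide
  have hg4 : Nat.gcd n 4 = 4 := Nat.gcd_eq_right h4
  have hAn : AA false n 3 = 3 ^ n - 1 := by
    unfold AA
    have : n % 2 = 0 := by omega
    simp [this]
  have hAn1 : AA false (n - 1) 3 = 3 ^ (n - 1) + 1 := by
    unfold AA
    have : (n - 1) % 2 = 1 := by omega
    simp [this]
  have hc16 : orderOf c * 16 = 3 ^ n - 1 := by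
    rw [← hc, show 3 + 1 = 4 from rfl, hg4]
  have hn3 : 1 < 3 ^ n := Nat.one_lt_pow (by omega) (by norm_num)
  -- no elements of order `w * orderOf c`
  have hno : ¬ ∃ y : Cfsg.PSU n F 3, orderOf y = w * orderOf c := by
    rintro ⟨y, hy⟩
    obtain ⟨r, hr, hr1, hr2⟩ := exists_prime (e := false) (i := n) (q := 3) (by norm_num) (by omega)
      (by rintro (⟨h, -⟩ | ⟨-, h, -⟩) <;> simp_all <;> omega)
    have hrc : r ∣ orderOf c := by
      have h1 : r ∣ AA false n 3 := (dvd_AA_iff (by norm_num)).2 (by rw [← hr2]; exact pow_orderOf_eq_one _)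
      rw [hAn, ← hc16] at h1
      rcases hr.dvd_mul.1 h1 with h2 | h2
      · exact h2
      · exfalso
        have h3 : r ∣ 2 := hr.dvd_of_dvd_pow (show r ∣ 2 ^ 4 from h2)
        have h5 : n ∣ r - 1 := order_dvd_pred hr (by omega) hr2
        have h6 := Nat.le_of_dvd (by norm_num) h3
        have h7 := hr.two_le
        have h8 : r - 1 = 1 := by omega
        rw [h8] at h5
        have := Nat.le_of_dvd (by norm_num) h5
        omega
    have h1 := Cfsg.Agent.H321.SpecEven.top_dvd hlin hF2 (by omega) hr hr2 (g := y) (orderOf_pos y)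
      (by rw [hy]; exact hrc.mul_left w)
    rw [hA1, hAn, hg4, ← hc16, hy, mul_assoc, show 4 * 4 = 16 from rfl] at h1
    have h2 : w * orderOf c ∣ orderOf c := Nat.dvd_of_mul_dvd_mul_right (k := 16) (by norm_num) h1
    have h3 := Nat.le_of_dvd (orderOf_pos c) h2
    have h5 := hw.two_le
    have h6 := orderOf_pos c
    nlinarith
  by_cases hφ : ∃ g, φ g ≠ 1
  · obtain ⟨v, hv⟩ := hcov hV φ hφ
    exact ⟨c, v, hv, hno⟩
  · push Not at hφ
    obtain ⟨v, hv⟩ := exists_ne (0 : V)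
    have hfix : ∀ g : Cfsg.PSU n F 3, φ g v = v := fun g => by rw [hφ g]; rfl
    by_cases hwc : w ∣ orderOf c
    · -- a prime of index `n - 1`
      obtain ⟨r, hr, hr1, hr2⟩ := exists_prime (e := false) (i := n - 1) (q := 3) (by norm_num) (by omega)
        (by rintro (⟨h, -⟩ | ⟨-, h, -⟩) <;> simp_all <;> omega)
      have hr12 : n - 1 ≤ r - 1 := Nat.le_of_dvd (by have := hr.two_le; omega) (order_dvd_pred hr (by omega) hr2)
      have hrA : r ∣ AA false (n - 1) 3 := (dvd_AA_iff (by norm_num)).2 (by rw [← hr2]; exact pow_orderOf_eq_one _)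
      have hw4 : ∀ {y : Cfsg.PSU n F 3}, r ∣ orderOf y → ¬ w ∣ orderOf y := by
        intro y hy hwy
        have h1 := Cfsg.Agent.H321.SpecEven.pred_dvd hlin hF2 (by omega) hr hr2 (g := y) (orderOf_pos y) hy
        rw [hAn1] at h1
        have h2 : w ∣ 3 ^ (n - 1) + 1 := (hwy.trans (Dvd.intro _ rfl)).trans h1
        have h3 : w ∣ 3 ^ n - 1 := by rw [← hc16]; exact hwc.mul_right _
        have h5 : w ∣ 4 := by
          have h6 : 3 * (3 ^ (n - 1) + 1) = (3 ^ n - 1) + 4 := by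
            have : 3 ^ n = 3 * 3 ^ (n - 1) := by rw [← pow_succ']; congr 1; omega
            omega
          have h7 : w ∣ (3 ^ n - 1) + 4 := by rw [← h6]; exact h2.mul_left 3
          exact (Nat.dvd_add_right h3).1 h7
        have h6 : w = 2 := (Nat.prime_dvd_prime_iff_eq hw Nat.prime_two).1 (hw.dvd_of_dvd_pow (show w ∣ 2 ^ 2 from h5))
        rw [h6] at hwc
        apply two_part h4 h8
        rw [← hc16]
        obtain ⟨k, hk⟩ := hwc
        rw [hk]
        exact ⟨k, by ring⟩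
      obtain ⟨x, hx⟩ := hL.exists_tor_le hF2 (by omega) (i := n - 1) (N := r) (by omega) (by omega) hr.pos
        (by
          rw [hA1]
          refine (Nat.Prime.coprime_iff_not_dvd hr).2 fun h => ?_
          have := Nat.le_of_dvd (by norm_num) h
          omega) hrA
      refine ⟨x, v, Cfsg.Agent.H373.Recog.sum_ne_zero_of_fixed hw hV φ hv (hfix x) ?_, ?_⟩
      · exact hw4 (by rw [hx])
      · rintro ⟨y, hy⟩
        exact hw4 (y := y) (by rw [hy, hx]; exact Dvd.intro_left _ rfl) (by rw [hy]; exact Dvd.intro _ rfl)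
    · exact ⟨c, v, Cfsg.Agent.H373.Recog.sum_ne_zero_of_fixed hw hV φ hv (hfix c) hwc, hno⟩

end psu

end Cfsg.Agent.H892.SUCov
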