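import Cfsg.Agent.H892.SUCov.Lift

/-!
# A Frobenius group in `PSU_{2m}(q)` (helper892)

`K` the field of `q ^ (2 m)` elements over `F` (`q ^ 2` elements). On `K × K` with the Hermitian form
`Tr (θ a * d) + σ (Tr (θ c * b))`, `θ y = y ^ q`:

* `tor t (a, b) = (t a, θ t⁻¹ b)`,
* `uni e (a, b) = (a, b + e a - θ e θ² a)`,
* `tor t * uni e = uni (e (t θ t)⁻¹) * tor t`.
-/

set_option autoImplicit false

namespace Cfsg.Agent.H892.SUCov

open Cfsg Matrix Cfsg.Agent.H403

section model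

variable {F : Type*} [Field F] {K : Type*} [Field K] [Algebra F K]

/-- the torus -/
noncomputable def tor (F : Type*) [Field F] {K : Type*} [Field K] [Algebra F K] (θ : K →+* K) (t : Kˣ) :
    Module.End F (K × K) :=
  LinearMap.prodMap (Algebra.lmul F K (t : K)) (Algebra.lmul F K (θ ((t⁻¹ : Kˣ) : K)))

theorem tor_apply (θ : K →+* K) (t : Kˣ) (x : K × K) :
    tor F θ t x = ((t : K) * x.1, θ ((t⁻¹ : Kˣ) : K) * x.2) := rfl

theorem tor_one (θ : K →+* K) : tor F θ 1 = 1 := by
  apply LinearMap.ext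
  intro x
  rw [tor_apply]
  simp

theorem tor_mul (θ : K →+* K) (s t : Kˣ) : tor F θ (s * t) = tor F θ s * tor F θ t := by
  apply LinearMap.ext
  intro x
  rw [Module.End.mul_apply, tor_apply, tor_apply, tor_apply]
  refine Prod.ext ?_ ?_
  · simp [mul_assoc]
  · simp [mul_comm, mul_left_comm]

/-- the additive map -/
def yy {σ : F →+* F} (hσσ : ∀ a, σ (σ a) = a) (θ : K →+* K) (hθF : ∀ a, θ (algebraMap F K a) = algebraMap F K (σ a))
    (e : K) : K →ₗ[F] K where
  toFun := fun a => e * a - θ e * θ (θ a)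
  map_add' := fun a b => by rw [map_add, map_add]; ring
  map_smul' := fun c a => by
    rw [Algebra.smul_def, map_mul, map_mul, hθF, hθF, hσσ, RingHom.id_apply, Algebra.smul_def]
    ring

/-- the unipotent elements -/
def uni {σ : F →+* F} (hσσ : ∀ a, σ (σ a) = a) (θ : K →+* K) (hθF : ∀ a, θ (algebraMap F K a) = algebraMap F K (σ a))
    (e : K) : Module.End F (K × K) :=
  LinearMap.id + (LinearMap.inr F K K).comp ((yy hσσ θ hθF e).comp (LinearMap.fst F K K))

variable {σ : F →+* F} (hσσ : ∀ a, σ (σ a) = a) (θ : K →+* K) (hθF : ∀ a, θ (algebraMap F K a) = algebraMap F K (σ a))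

theorem uni_apply (e : K) (x : K × K) : uni hσσ θ hθF e x = (x.1, x.2 + (e * x.1 - θ e * θ (θ x.1))) := by
  refine Prod.ext ?_ ?_
  · simp [uni]
  · simp [uni, yy]

theorem uni_zero : uni hσσ θ hθF 0 = 1 := by
  apply LinearMap.ext
  intro x
  rw [uni_apply]
  simp

theorem uni_add (e e' : K) : uni hσσ θ hθF (e + e') = uni hσσ θ hθF e * uni hσσ θ hθF e' := by
  apply LinearMap.ext
  intro x
  rw [Module.End.mul_apply, uni_apply, uni_apply, uni_apply]
  refine Prod.ext rfl ?_
  simp only [map_add]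
  ring

theorem tor_uni (t : Kˣ) (e : K) : tor F θ t * uni hσσ θ hθF e =
    uni hσσ θ hθF (e * ((t⁻¹ : Kˣ) : K) * θ ((t⁻¹ : Kˣ) : K)) * tor F θ t := by
  apply LinearMap.ext
  intro x
  have h1 : (t : K) * ((t⁻¹ : Kˣ) : K) = 1 := Units.mul_inv t
  have h2 : θ (θ (t : K)) * θ (θ ((t⁻¹ : Kˣ) : K)) = 1 := by rw [← map_mul, ← map_mul, h1, map_one, map_one]
  rw [Module.End.mul_apply, Module.End.mul_apply, uni_apply, tor_apply, tor_apply, uni_apply]
  refine Prod.ext rfl ?_
  simp only [map_mul]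
  linear_combination (-θ ((t⁻¹ : Kˣ) : K) * e * x.1) * h1 + (θ e * θ ((t⁻¹ : Kˣ) : K) * θ (θ x.1)) * h2

end model

section form

variable {F : Type*} [Field F] [Fintype F] {K : Type*} [Field K] [Finite K] [Algebra F K] {q : ℕ}
variable {σ : F →+* F} (hσσ : ∀ a, σ (σ a) = a) (θ : K →+* K) (hθF : ∀ a, θ (algebraMap F K a) = algebraMap F K (σ a))

/-- the form -/
noncomputable def bb : K × K →ₛₗ[σ] K × K →ₗ[F] F :=
  LinearMap.mk₂'ₛₗ σ (RingHom.id F)
    (fun x y => Algebra.trace F K (θ x.1 * y.2) + σ (Algebra.trace F K (θ y.1 * x.2)))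
    (by
      intro x x' y
      simp only [Prod.fst_add, Prod.snd_add, map_add, add_mul, mul_add]
      ring)
    (by
      intro c x y
      simp only [Prod.smul_fst, Prod.smul_snd]
      rw [Algebra.smul_def, map_mul θ, hθF, mul_assoc, ← Algebra.smul_def, map_smul, mul_smul_comm, map_smul,
        smul_eq_mul, smul_eq_mul, map_mul σ, smul_eq_mul]
      ring)
    (by
      intro x y y'
      simp only [Prod.fst_add, Prod.snd_add, map_add, add_mul, mul_add]
      ring)
    (by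
      intro c x y
      simp only [Prod.smul_fst, Prod.smul_snd]
      rw [Algebra.smul_def c y.1, map_mul θ, hθF, mul_assoc, ← Algebra.smul_def, map_smul, mul_smul_comm, map_smul,
        smul_eq_mul, smul_eq_mul, map_mul σ, hσσ, RingHom.id_apply, smul_eq_mul]
      ring)

theorem bb_apply (x y : K × K) : bb hσσ θ hθF x y =
    Algebra.trace F K (θ x.1 * y.2) + σ (Algebra.trace F K (θ y.1 * x.2)) := rfl

theorem bb_symm (x y : K × K) : σ (bb hσσ θ hθF x y) = bb hσσ θ hθF y x := by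
  rw [bb_apply, bb_apply, map_add, hσσ, add_comm]

theorem bb_sep {x : K × K} (hx : ∀ y, bb hσσ θ hθF x y = 0) : x = 0 := by
  have hθs : Function.Surjective θ := Finite.surjective_of_injective θ.injective
  have h1 : x.1 = 0 := by
    have h2 := trace_nondeg (F := F) (z := θ x.1) fun y => by
      have h3 := hx (0, y)
      rw [bb_apply] at h3
      simpa using h3
    exact θ.injective (by rw [h2, map_zero])
  have h2 : x.2 = 0 := by
    refine trace_nondeg (F := F) fun y => ?_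
    obtain ⟨w, rfl⟩ := hθs y
    have h3 := hx (w, 0)
    rw [bb_apply] at h3
    have h4 : σ (Algebra.trace F K (θ w * x.2)) = 0 := by simpa using h3
    have h5 : Algebra.trace F K (θ w * x.2) = 0 := σ.injective (by rw [h4, map_zero])
    rw [mul_comm]
    exact h5
  exact Prod.ext h1 h2

theorem bb_isSymm : (bb hσσ θ hθF : K × K →ₛₗ[σ] K × K →ₗ[F] F).IsSymm := ⟨fun x y => bb_symm hσσ θ hθF x y⟩

theorem bb_nondeg : (bb hσσ θ hθF : K × K →ₛₗ[σ] K × K →ₗ[F] F).Nondegenerate :=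
  ⟨fun _ hx => bb_sep hσσ θ hθF hx, fun y hy => bb_sep hσσ θ hθF fun x => by
    rw [← bb_symm, hy x, map_zero]⟩

theorem tor_isometry (t : Kˣ) (x y : K × K) :
    bb hσσ θ hθF (tor F θ t x) (tor F θ t y) = bb hσσ θ hθF x y := by
  have h0 : θ (t : K) * θ ((t⁻¹ : Kˣ) : K) = 1 := by rw [← map_mul, Units.mul_inv, map_one]
  have key : ∀ a d : K, Algebra.trace F K (θ ((t : K) * a) * (θ ((t⁻¹ : Kˣ) : K) * d)) =
      Algebra.trace F K (θ a * d) := by
    intro a d
    congr 1
    rw [map_mul]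
    calc θ (t : K) * θ a * (θ ((t⁻¹ : Kˣ) : K) * d) = (θ (t : K) * θ ((t⁻¹ : Kˣ) : K)) * (θ a * d) := by ring
      _ = θ a * d := by rw [h0, one_mul]
  rw [bb_apply, bb_apply, tor_apply, tor_apply, key, key]

include hσσ in
theorem trace_theta (hθ : ∀ y : K, θ y = y ^ q) (hθF : ∀ a, θ (algebraMap F K a) = algebraMap F K (σ a)) (z : K) :
    σ (Algebra.trace F K (θ z)) = Algebra.trace F K z := by
  have h1 := trace_comm σ θ hθ hθF z
  rw [← h1, hσσ]

theorem uni_isometry (hθ : ∀ y : K, θ y = y ^ q) (e : K) (x y : K × K) :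
    bb hσσ θ hθF (uni hσσ θ hθF e x) (uni hσσ θ hθF e y) = bb hσσ θ hθF x y := by
  rw [bb_apply, bb_apply, uni_apply, uni_apply]
  dsimp only
  have h1 : σ (Algebra.trace F K (θ y.1 * (x.2 + (e * x.1 - θ e * θ (θ x.1))))) =
      σ (Algebra.trace F K (θ y.1 * x.2)) + Algebra.trace F K (θ (θ y.1 * (e * x.1))) -
        Algebra.trace F K (y.1 * e * θ x.1) := by
    rw [mul_add, mul_sub, map_add, map_sub, map_add, map_sub, ← trace_comm σ θ hθ hθF (θ y.1 * (e * x.1)),
      ← trace_theta hσσ θ hθ hθF (y.1 * e * θ x.1)]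
    have h2 : θ (y.1 * e * θ x.1) = θ y.1 * (θ e * θ (θ x.1)) := by rw [map_mul, map_mul]; ring
    rw [h2]
    ring
  rw [h1, mul_add, mul_sub, map_add, map_sub]
  have h3 : θ (θ y.1 * (e * x.1)) = θ x.1 * (θ e * θ (θ y.1)) := by rw [map_mul, map_mul]; ring
  have h4 : y.1 * e * θ x.1 = θ x.1 * (e * y.1) := by ring
  rw [h3, h4]
  ring

end form

end Cfsg.Agent.H892.SUCov
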