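import Cfsg.Agent.H892.SUCov.Conf

/-!
# A Frobenius group in `PSU_{2m}(q)`: the configuration (helper892)

`exists_config` : `n = 2 m`, `m ≥ 2`: there are a nontrivial abelian `p`-subgroup `U` (elementary) of `PSU n F q` and an
element `c` with `orderOf c * (gcd n (q + 1) * (q + 1)) = q ^ n - 1` normalizing `U` and acting freely on it.
-/

set_option autoImplicit false
set_option linter.unusedSectionVars false

namespace Cfsg.Agent.H892.SUCov

open Cfsg Matrix Cfsg.Agent.H403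

section det

variable {F : Type*} [Field F] [Fintype F] {K : Type*} [Field K] [Finite K] [Algebra F K] {q m : ℕ}
variable {σ : F →+* F} (hσσ : ∀ a, σ (σ a) = a) (θ : K →+* K) (hθF : ∀ a, θ (algebraMap F K a) = algebraMap F K (σ a))

theorem det_tor (hF : Fintype.card F = q ^ 2) (hK : Module.finrank F K = m) (hθ : ∀ y : K, θ y = y ^ q) {t : Kˣ}
    (ht : t ^ ((∑ i ∈ Finset.range m, (q ^ 2) ^ i) * (q - 1)) = 1) (hq : 1 ≤ q) :
    LinearMap.det (tor F θ t) = 1 := by
  have h1 : LinearMap.det (tor F θ t) = Algebra.norm F (t : K) * Algebra.norm F (θ ((t⁻¹ : Kˣ) : K)) := by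
    unfold tor
    rw [LinearMap.det_prodMap]
    rfl
  set S := ∑ i ∈ Finset.range m, (q ^ 2) ^ i with hS
  have hc : Nat.card F = q ^ 2 := by rw [Nat.card_eq_fintype_card, hF]
  rw [h1]
  apply (algebraMap F K).injective
  rw [map_mul, FiniteField.algebraMap_norm_eq_pow_sum, FiniteField.algebraMap_norm_eq_pow_sum, map_one, hK, hc, hθ,
    ← hS, ← pow_mul, ← Units.val_pow_eq_pow_val, ← Units.val_pow_eq_pow_val, ← Units.val_mul]
  have h2 : t ^ S * t⁻¹ ^ (q * S) = 1 := by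
    have h3 : q * S = S * (q - 1) + S := by
      obtain ⟨a, rfl⟩ : ∃ a, q = a + 1 := ⟨q - 1, by omega⟩
      rw [Nat.add_sub_cancel]; ring
    rw [inv_pow, h3, pow_add, ht, one_mul, mul_inv_cancel]
  rw [h2, Units.val_one]

theorem uni_pow (e : K) (k : ℕ) : uni hσσ θ hθF e ^ k = uni hσσ θ hθF (k • e) := by
  induction k with
  | zero => rw [pow_zero, zero_smul, uni_zero]
  | succ k ih => rw [pow_succ, ih, ← uni_add, succ_nsmul]

theorem det_uni {p : ℕ} [Fact p.Prime] [CharP K p] [CharP F p] (e : K) : LinearMap.det (uni hσσ θ hθF e) = 1 := by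
  have h1 : uni hσσ θ hθF e ^ p = 1 := by
    rw [uni_pow, nsmul_eq_mul, CharP.cast_eq_zero, zero_mul, uni_zero]
  have h2 : (LinearMap.det (uni hσσ θ hθF e)) ^ p = 1 := by rw [← map_pow, h1, map_one]
  apply frobenius_inj F p
  rw [frobenius_def, frobenius_def, h2, one_pow]

end det

section scal

variable {F : Type*} [Field F] [Fintype F] {K : Type*} [Field K] [Finite K] [Algebra F K] {q m : ℕ}
variable {σ : F →+* F} (hσσ : ∀ a, σ (σ a) = a) (θ : K →+* K) (hθF : ∀ a, θ (algebraMap F K a) = algebraMap F K (σ a))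

theorem mem_range_of_pow (hF : Fintype.card F = q ^ 2) {y : K} (h2 : y ^ q ^ 2 = y) :
    ∃ c : F, algebraMap F K c = y := by
  rw [← hF] at h2
  classical
  have h3 : (Polynomial.X ^ Fintype.card F - Polynomial.X : Polynomial F) =
      ∏ a : F, (Polynomial.X - Polynomial.C a) := by
    have h5 : (Polynomial.X ^ Fintype.card F - Polynomial.X : Polynomial F).Monic :=
      Polynomial.monic_X_pow_sub (by rw [Polynomial.degree_X]; exact_mod_cast Fintype.one_lt_card)
    have h6 := Polynomial.prod_multiset_X_sub_C_of_monic_of_roots_card_eq h5 (by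
      rw [FiniteField.roots_X_pow_card_sub_X, FiniteField.X_pow_card_sub_X_natDegree_eq F Fintype.one_lt_card]
      simp)
    rw [FiniteField.roots_X_pow_card_sub_X] at h6
    exact h6.symm
  have h4 := congrArg (fun P : Polynomial F => (P.map (algebraMap F K)).eval y) h3
  simp only [Polynomial.map_sub, Polynomial.map_pow, Polynomial.map_X, Polynomial.eval_sub, Polynomial.eval_pow,
    Polynomial.eval_X, h2, sub_self, Polynomial.map_prod, Polynomial.map_C, Polynomial.eval_prod,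
    Polynomial.eval_C] at h4
  obtain ⟨a, -, ha⟩ := Finset.prod_eq_zero_iff.1 h4.symm
  exact ⟨a, (sub_eq_zero.1 ha).symm⟩

theorem tor_scalar_iff (hF : Fintype.card F = q ^ 2) (hq : 1 ≤ q) (hθ : ∀ y : K, θ y = y ^ q) (t : Kˣ) :
    (∃ c : F, tor F θ t = c • (1 : Module.End F (K × K))) ↔ t ^ (q + 1) = 1 := by
  have hθt : ∀ s : Kˣ, θ (s : K) = ((s ^ q : Kˣ) : K) := fun s => by rw [hθ, Units.val_pow_eq_pow_val]
  constructor
  · rintro ⟨c, hc⟩
    have h1 := congrArg (fun T : Module.End F (K × K) => T ((1, 1) : K × K)) hc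
    simp only [tor_apply, LinearMap.smul_apply, Module.End.one_apply] at h1
    have h2 : (t : K) * 1 = c • (1 : K) := congrArg Prod.fst h1
    have h3 : θ ((t⁻¹ : Kˣ) : K) * 1 = c • (1 : K) := congrArg Prod.snd h1
    rw [← h2, mul_one, mul_one, hθt] at h3
    have h4 : t⁻¹ ^ q = t := Units.ext h3
    rw [inv_pow] at h4
    rw [pow_succ]
    calc t ^ q * t = t ^ q * (t ^ q)⁻¹ := by rw [h4]
      _ = 1 := mul_inv_cancel _
  · intro h
    have h1 : t ^ q ^ 2 = t := by
      have h2 : q ^ 2 = (q + 1) * (q - 1) + 1 := by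
        obtain ⟨a, rfl⟩ : ∃ a, q = a + 1 := ⟨q - 1, by omega⟩
        rw [Nat.add_sub_cancel]; ring
      rw [h2, pow_succ, pow_mul, h, one_pow, one_mul]
    obtain ⟨c, hc⟩ := mem_range_of_pow hF (y := (t : K)) (by rw [← Units.val_pow_eq_pow_val, h1])
    refine ⟨c, ?_⟩
    apply LinearMap.ext
    intro x
    rw [tor_apply]
    have h3 : θ ((t⁻¹ : Kˣ) : K) = (t : K) := by
      rw [hθt]
      congr 1
      rw [inv_pow, inv_eq_iff_mul_eq_one, ← pow_succ, h]
    refine Prod.ext ?_ ?_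
    · show (t : K) * x.1 = c • x.1
      rw [Algebra.smul_def, hc]
    · show θ ((t⁻¹ : Kˣ) : K) * x.2 = c • x.2
      rw [h3, Algebra.smul_def, hc]

theorem uni_scalar (hF : Fintype.card F = q ^ 2) (hθ : ∀ y : K, θ y = y ^ q) {m : ℕ} (hm : 2 ≤ m)
    (hK : Module.finrank F K = m) {e : K}
    (h : ∃ c : F, uni hσσ θ hθF e = c • (1 : Module.End F (K × K))) : e = 0 := by
  obtain ⟨c, hc⟩ := h
  have h1 : ∀ a : K, e * a - θ e * θ (θ a) = 0 := by
    intro a
    have h2 := congrArg (fun T : Module.End F (K × K) => T ((a, 0) : K × K)) hc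
    simp only [uni_apply, LinearMap.smul_apply, Module.End.one_apply] at h2
    have h3 : 0 + (e * a - θ e * θ (θ a)) = c • (0 : K) := congrArg Prod.snd h2
    rwa [zero_add, smul_zero] at h3
  by_contra he
  have hq2 : 2 ≤ q := Cfsg.Agent.LieClassical.HermBasic.two_le hF
  have h2 : θ e = e := by
    have := h1 1
    rw [map_one, map_one, mul_one, mul_one] at this
    exact (sub_eq_zero.1 this).symm
  have h3 : ∀ a : K, a ^ q ^ 2 = a := by
    intro a
    have := h1 a
    rw [h2, ← mul_sub] at this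
    have h4 := (mul_eq_zero.1 this).resolve_left he
    rw [hθ, hθ, ← pow_mul, ← sq] at h4
    exact (sub_eq_zero.1 h4).symm
  have h4 : Function.Surjective (algebraMap F K) := fun y => mem_range_of_pow hF (h3 y)
  have h5 : Nat.card K ≤ Nat.card F := Nat.card_le_card_of_surjective _ h4
  have hcK : Nat.card K = Nat.card F ^ m := by rw [← hK]; exact Module.natCard_eq_pow_finrank
  rw [hcK] at h5
  have h6 : 1 < Nat.card F := by rw [Nat.card_eq_fintype_card]; exact Fintype.one_lt_card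
  have h7 : Nat.card F ^ 2 ≤ Nat.card F ^ m := Nat.pow_le_pow_right (by omega) hm
  nlinarith

end scal

section num

/-- `gcd (q ^ n - 1) / (q + 1)` and `q + 1` -/
theorem gcd_num {q m : ℕ} (hq : 1 ≤ q) :
    Nat.gcd ((∑ i ∈ Finset.range m, (q ^ 2) ^ i) * (q - 1)) (q + 1) = Nat.gcd (2 * m) (q + 1) := by
  set S := ∑ i ∈ Finset.range m, (q ^ 2) ^ i with hS
  have h1 : (S : ℤ) ≡ m [ZMOD ((q + 1 : ℕ) : ℤ)] := by
    rw [hS]
    push_cast
    have h2 : ∀ i ∈ Finset.range m, (((q : ℤ) ^ 2) ^ i) ≡ 1 [ZMOD ((q : ℤ) + 1)] := by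
      intro i _
      have h3 : ((q : ℤ) ^ 2) ≡ 1 [ZMOD ((q : ℤ) + 1)] := by
        apply Int.ModEq.symm
        rw [Int.modEq_iff_dvd]
        exact ⟨(q : ℤ) - 1, by ring⟩
      simpa using h3.pow i
    have h4 : ∑ i ∈ Finset.range m, (((q : ℤ) ^ 2) ^ i) ≡ ∑ i ∈ Finset.range m, (1 : ℤ) [ZMOD ((q : ℤ) + 1)] := by
      rw [Int.modEq_iff_dvd, ← Finset.sum_sub_distrib]
      exact Finset.dvd_sum fun i hi => (Int.modEq_iff_dvd).1 (h2 i hi)
    simpa using h4
  have h5 : ((S * (q - 1) : ℕ) : ℤ) ≡ -((2 * m : ℕ) : ℤ) [ZMOD ((q + 1 : ℕ) : ℤ)] := by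
    have h6 : (((q - 1 : ℕ) : ℤ)) ≡ -2 [ZMOD ((q + 1 : ℕ) : ℤ)] := by
      apply Int.ModEq.symm
      rw [Int.modEq_iff_dvd]
      refine ⟨1, ?_⟩
      push_cast [Nat.cast_sub hq]
      ring
    have h7 := h1.mul h6
    have h8 : (m : ℤ) * -2 = -((2 * m : ℕ) : ℤ) := by push_cast; ring
    rw [h8] at h7
    push_cast at h7 ⊢
    exact h7
  apply Nat.dvd_antisymm
  · apply Nat.dvd_gcd _ (Nat.gcd_dvd_right _ _)
    set g := Nat.gcd (S * (q - 1)) (q + 1) with hg
    have h9 : ((g : ℕ) : ℤ) ∣ ((S * (q - 1) : ℕ) : ℤ) := by exact_mod_cast Nat.gcd_dvd_left _ _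
    have h10 : ((g : ℕ) : ℤ) ∣ ((q + 1 : ℕ) : ℤ) := by exact_mod_cast Nat.gcd_dvd_right _ _
    have h11 : ((g : ℕ) : ℤ) ∣ -((2 * m : ℕ) : ℤ) := by
      have h12 := h10.trans ((Int.modEq_iff_dvd).1 h5)
      have h13 := dvd_add h12 h9
      rwa [sub_add_cancel] at h13
    rw [dvd_neg] at h11
    exact_mod_cast h11
  · apply Nat.dvd_gcd _ (Nat.gcd_dvd_right _ _)
    set g := Nat.gcd (2 * m) (q + 1) with hg
    have h9 : ((g : ℕ) : ℤ) ∣ ((2 * m : ℕ) : ℤ) := by exact_mod_cast Nat.gcd_dvd_left _ _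
    have h10 : ((g : ℕ) : ℤ) ∣ ((q + 1 : ℕ) : ℤ) := by exact_mod_cast Nat.gcd_dvd_right _ _
    have h11 : ((g : ℕ) : ℤ) ∣ ((S * (q - 1) : ℕ) : ℤ) := by
      have h12 := h10.trans ((Int.modEq_iff_dvd).1 h5)
      have h13 := dvd_sub (dvd_neg.2 h9) h12
      rwa [sub_sub_cancel] at h13
    exact_mod_cast h11

theorem sum_num {q m : ℕ} (hq : 2 ≤ q) : (∑ i ∈ Finset.range m, (q ^ 2) ^ i) * (q - 1) * (q + 1) = q ^ (2 * m) - 1 := by
  have hq2 : 2 ≤ q ^ 2 := by nlinarith
  have h := Nat.geomSum_eq hq2 m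
  have h2 : (∑ i ∈ Finset.range m, (q ^ 2) ^ i) * (q ^ 2 - 1) = (q ^ 2) ^ m - 1 := by
    rw [h, Nat.div_mul_cancel]
    simpa using Nat.sub_dvd_pow_sub_pow (q ^ 2) 1 m
  have h3 : q ^ 2 - 1 = (q - 1) * (q + 1) := by
    have := Nat.sq_sub_sq q 1
    rw [one_pow] at this
    rw [this, mul_comm]
  rw [pow_mul, ← h2, h3, mul_assoc]

end num

section config

variable {F : Type*} [Field F] [Fintype F]

/-- **The Frobenius group.** -/
theorem exists_config {q m n p : ℕ} (hF : Fintype.card F = q ^ 2) (hn : n = 2 * m) (hm : 2 ≤ m) (hp : p.Prime)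
    (hpq : p ∣ q) :
    ∃ (U : Subgroup (PSU n F q)) (c : PSU n F q), U ≠ ⊥ ∧ IsPGroup p U ∧
      (∀ a ∈ U, ∀ i : ℕ, (c ^ i)⁻¹ * a * c ^ i ∈ U) ∧
      (∀ i, 0 < i → i < orderOf c → ∀ a ∈ U, c ^ i * a = a * c ^ i → a = 1) ∧
      orderOf c * (Nat.gcd n (q + 1) * (q + 1)) = q ^ n - 1 := by
  have hq2 : 2 ≤ q := Cfsg.Agent.LieClassical.HermBasic.two_le hF
  obtain ⟨p', j, hp', hch, hq⟩ := exists_pow_char hF
  have hpp : p = p' := (Nat.prime_dvd_prime_iff_eq hp hp').1 (hp.dvd_of_dvd_pow (hq ▸ hpq))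
  subst hpp
  have := Fact.mk hp
  have : NeZero m := ⟨by omega⟩
  obtain ⟨σ, hσ⟩ := ClassicalGeometry.GUBasic.exists_powHom hF
  have hσσ : ∀ a, σ (σ a) = a := by
    intro a
    rw [hσ, hσ, ← pow_mul, ← sq, ← hF, FiniteField.pow_card]
  let K := FiniteField.Extension F p m
  have hfin : Finite K := inferInstance
  have hchK : CharP K p := charP_of_injective_algebraMap (algebraMap F K).injective p
  let θ : K →+* K := iterateFrobenius K p j
  have hθ : ∀ y, θ y = y ^ q := by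
    intro y
    change iterateFrobenius K p j y = _
    rw [iterateFrobenius_def, hq]
  have hcardK : Nat.card K = q ^ (2 * m) := by
    rw [FiniteField.natCard_extension, Nat.card_eq_fintype_card, hF, ← pow_mul]
  have hθF : ∀ a, θ (algebraMap F K a) = algebraMap F K (σ a) := by
    intro a
    rw [hθ, hσ, ← map_pow]
  have hfr : Module.finrank F K = m := FiniteField.finrank_extension F p m
  have hV : Module.finrank F (K × K) = n := by
    rw [Module.finrank_prod, hfr, hn]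
    ring
  obtain ⟨f, hf⟩ := exists_lift hF (by omega) hσ (bb hσσ θ hθF) (bb_isSymm hσσ θ hθF) (bb_nondeg hσσ θ hθF) hV
  set M := (∑ i ∈ Finset.range m, (q ^ 2) ^ i) * (q - 1) with hM
  have hMq : M * (q + 1) = q ^ (2 * m) - 1 := sum_num hq2
  obtain ⟨t, ht⟩ := exists_orderOf (K := K) (N := M) (by rw [hcardK, ← hMq]; exact Dvd.intro _ rfl)
  have htM : ∀ i : ℕ, (t ^ i) ^ M = 1 := fun i => by rw [← pow_mul, mul_comm, pow_mul, ← ht, pow_orderOf_eq_one, one_pow]
  -- the elements of the group of isometries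
  let T : ℕ → isoS (bb hσσ θ hθF : K × K →ₛₗ[σ] K × K →ₗ[F] F) := fun i =>
    ⟨tor F θ (t ^ i), fun x y => tor_isometry hσσ θ hθF _ x y, det_tor θ hF hfr hθ (htM i) (by omega)⟩
  let W : K → isoS (bb hσσ θ hθF : K × K →ₛₗ[σ] K × K →ₗ[F] F) := fun e =>
    ⟨uni hσσ θ hθF e, fun x y => uni_isometry hσσ θ hθF hθ e x y, det_uni (p := p) hσσ θ hθF e⟩
  have hTm : ∀ i, T i = T 1 ^ i := by
    intro i
    induction i with
    | zero => exact Subtype.ext (by show tor F θ (t ^ 0) = 1; rw [pow_zero, tor_one])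
    | succ i ih =>
      rw [pow_succ, ← ih]
      exact Subtype.ext (by
        show tor F θ (t ^ (i + 1)) = tor F θ (t ^ i) * tor F θ (t ^ 1)
        rw [← tor_mul, ← pow_add])
  have hWm : ∀ e e', W (e + e') = W e * W e' := fun e e' => Subtype.ext (uni_add hσσ θ hθF e e')
  have hW0 : W 0 = 1 := Subtype.ext (uni_zero hσσ θ hθF)
  -- the action
  let s : ℕ → K := fun i => (((t ^ i)⁻¹ : Kˣ) : K) * θ (((t ^ i)⁻¹ : Kˣ) : K)
  have hs0 : ∀ i, s i ≠ 0 := fun i => mul_ne_zero (Units.ne_zero _) (by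
    intro h
    exact Units.ne_zero ((t ^ i)⁻¹) ((map_eq_zero θ).1 h))
  have hTW : ∀ i e, T i * W e = W (e * s i) * T i := by
    intro i e
    apply Subtype.ext
    show tor F θ (t ^ i) * uni hσσ θ hθF e = uni hσσ θ hθF (e * s i) * tor F θ (t ^ i)
    rw [tor_uni, mul_assoc]
  -- the homomorphism from the additive group
  let g : Multiplicative K →* PSU n F q :=
    { toFun := fun e => f (W e.toAdd)
      map_one' := by
        show f (W 0) = 1
        rw [hW0, map_one]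
      map_mul' := fun a b => by
        show f (W (a.toAdd + b.toAdd)) = _
        rw [hWm, map_mul] }
  have hg : ∀ e : K, g (Multiplicative.ofAdd e) = f (W e) := fun e => rfl
  have hg1 : ∀ e : K, f (W e) = 1 → e = 0 := fun e he =>
    uni_scalar hσσ θ hθF hF hθ hm hfr ((hf (W e)).1 he)
  have hcone : ∀ i, f (T 1) ^ i = 1 ↔ M ∣ i * (q + 1) := by
    intro i
    rw [← map_pow, ← hTm, hf]
    rw [show ((T i : isoS (bb hσσ θ hθF : K × K →ₛₗ[σ] K × K →ₗ[F] F)) : Module.End F (K × K)) =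
      tor F θ (t ^ i) from rfl, tor_scalar_iff θ hF (by omega) hθ, ← pow_mul, ← orderOf_dvd_iff_pow_eq_one, ht]
  have hs1 : ∀ i, s i = 1 → f (T 1) ^ i = 1 := by
    intro i hi
    rw [hcone]
    have h1 : (t ^ i)⁻¹ * (t ^ i)⁻¹ ^ q = 1 := by
      apply Units.ext
      rw [Units.val_mul, Units.val_pow_eq_pow_val, ← hθ, Units.val_one]
      exact hi
    have h2 : t ^ (i * (q + 1)) = 1 := by
      rw [← pow_succ', inv_pow, inv_eq_one, ← pow_mul] at h1
      exact h1
    rw [← ht]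
    exact orderOf_dvd_of_pow_eq_one h2
  have hconj : ∀ i e, f (T 1) ^ i * f (W e) = f (W (e * s i)) * f (T 1) ^ i := by
    intro i e
    rw [← map_pow, ← hTm, ← map_mul, ← map_mul, hTW]
  refine ⟨g.range, f (T 1), ?_, ?_, ?_, ?_, ?_⟩
  · intro h
    have h1 : g (Multiplicative.ofAdd (1 : K)) ∈ (⊥ : Subgroup (PSU n F q)) := by rw [← h]; exact ⟨_, rfl⟩
    rw [Subgroup.mem_bot] at h1
    exact one_ne_zero (hg1 1 h1)
  · rintro ⟨_, e, rfl⟩
    refine ⟨1, Subtype.ext ?_⟩
    show (g e) ^ p ^ 1 = 1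
    rw [pow_one, ← map_pow]
    have h1 : e ^ p = 1 := by
      apply Multiplicative.toAdd.injective
      rw [toAdd_pow, toAdd_one, nsmul_eq_mul, CharP.cast_eq_zero, zero_mul]
    rw [h1, map_one]
  · rintro _ ⟨e, rfl⟩ i
    refine ⟨Multiplicative.ofAdd (e.toAdd * (s i)⁻¹), ?_⟩
    rw [hg]
    have h1 := hconj i (e.toAdd * (s i)⁻¹)
    rw [mul_assoc, inv_mul_cancel₀ (hs0 i), mul_one] at h1
    show _ = (f (T 1) ^ i)⁻¹ * f (W e.toAdd) * f (T 1) ^ i
    rw [mul_assoc, ← h1, inv_mul_cancel_left]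
  · rintro i hi0 hi _ ⟨e, rfl⟩ hcomm
    have h1 : f (T 1) ^ i * f (W e.toAdd) = f (W e.toAdd) * f (T 1) ^ i := hcomm
    rw [hconj] at h1
    have h2 : f (W (e.toAdd * s i)) = f (W e.toAdd) := mul_right_cancel h1
    have h3 : e.toAdd * s i - e.toAdd = 0 := by
      apply hg1
      have h4 : f (W (e.toAdd * s i - e.toAdd)) * f (W e.toAdd) = f (W (e.toAdd * s i)) := by
        rw [← map_mul, ← hWm, sub_add_cancel]
      rw [h2] at h4
      exact mul_eq_right.1 h4
    have h5 : e.toAdd * (s i - 1) = 0 := by rw [mul_sub, mul_one]; exact h3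
    rcases mul_eq_zero.1 h5 with h6 | h6
    · show f (W e.toAdd) = 1
      rw [h6, hW0, map_one]
    · exfalso
      have h7 := hs1 i (sub_eq_zero.1 h6)
      exact absurd (orderOf_dvd_of_pow_eq_one h7) (Nat.not_dvd_of_pos_of_lt hi0 hi)
  · have hM0 : 0 < M := by
      rcases Nat.eq_zero_or_pos M with h | h
      · rw [h, zero_mul] at hMq
        have : 1 < q ^ (2 * m) := Nat.one_lt_pow (by omega) (by omega)
        omega
      · exact h
    have h1 : orderOf (f (T 1)) = M / Nat.gcd M (q + 1) := by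
      apply Nat.dvd_antisymm
      · apply orderOf_dvd_of_pow_eq_one
        rw [hcone]
        obtain ⟨k, hk⟩ := Nat.gcd_dvd_right M (q + 1)
        have h9 : M / Nat.gcd M (q + 1) * (q + 1) = M / Nat.gcd M (q + 1) * (Nat.gcd M (q + 1) * k) :=
          congrArg (fun z => M / Nat.gcd M (q + 1) * z) hk
        rw [h9, ← mul_assoc, Nat.div_mul_cancel (Nat.gcd_dvd_left M (q + 1))]
        exact Dvd.intro _ rfl
      · have h2 := (hcone _).1 (pow_orderOf_eq_one (f (T 1)))
        have h3 : Nat.Coprime (M / Nat.gcd M (q + 1)) ((q + 1) / Nat.gcd M (q + 1)) :=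
          Nat.coprime_div_gcd_div_gcd (Nat.gcd_pos_of_pos_left _ hM0)
        have h4 : M / Nat.gcd M (q + 1) ∣ orderOf (f (T 1)) * ((q + 1) / Nat.gcd M (q + 1)) := by
          have hg0 : 0 < Nat.gcd M (q + 1) := Nat.gcd_pos_of_pos_left _ hM0
          apply Nat.dvd_of_mul_dvd_mul_right hg0
          rw [Nat.div_mul_cancel (Nat.gcd_dvd_left M (q + 1)), mul_assoc,
            Nat.div_mul_cancel (Nat.gcd_dvd_right M (q + 1))]
          exact h2
        exact h3.dvd_of_dvd_mul_right h4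
    rw [h1, hn, ← gcd_num (m := m) (by omega : 1 ≤ q), ← hM, ← mul_assoc,
      Nat.div_mul_cancel (Nat.gcd_dvd_left M (q + 1)), hMq]

end config

end Cfsg.Agent.H892.SUCov
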