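import Cfsg.Agent.H403.HermTor
import Cfsg.Agent.H403.LinSpec
import Cfsg.Agent.LieClassical.HermBasic
import Cfsg.Agent.ClassicalGeometry.PSUAutBasic

/-!
# Isometries of a Hermitian space as elements of `PSU n F q` (helper892)

`exists_lift` : the isometries of determinant one of a nondegenerate Hermitian space of dimension `n` map to
`PSU n F q`; the kernel consists of the scalars.
-/

set_option autoImplicit false

namespace Cfsg.Agent.H892.SUCov

open Cfsg Matrix

section lift

variable {F : Type*} [Field F] {V : Type*} [AddCommGroup V] [Module F V]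

/-- isometries of determinant one -/
def isoS {σ : F →+* F} (B : V →ₛₗ[σ] V →ₗ[F] F) : Submonoid (Module.End F V) where
  carrier := {T | (∀ x y, B (T x) (T y) = B x y) ∧ LinearMap.det T = 1}
  one_mem' := ⟨fun _ _ => rfl, map_one _⟩
  mul_mem' := fun {a b} ha hb => ⟨fun x y => by
    rw [Module.End.mul_apply, Module.End.mul_apply, ha.1, hb.1], by rw [map_mul, ha.2, hb.2, one_mul]⟩

theorem mem_isoS {σ : F →+* F} {B : V →ₛₗ[σ] V →ₗ[F] F} {T : Module.End F V} :
    T ∈ isoS B ↔ (∀ x y, B (T x) (T y) = B x y) ∧ LinearMap.det T = 1 := Iff.rfl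

theorem sigma_ne [Fintype F] {q : ℕ} (hF : Fintype.card F = q ^ 2) {σ : F →+* F} (hσ : ∀ a, σ a = a ^ q) :
    σ ≠ RingHom.id F := by
  intro h
  obtain ⟨x, hx⟩ := Cfsg.Agent.LieClassical.HermBasic.exists_not_fixed hF
  apply hx
  rw [← hσ, h]; rfl

theorem exists_lift [Fintype F] [FiniteDimensional F V] {q n : ℕ} (hF : Fintype.card F = q ^ 2) (hn : 3 ≤ n)
    {σ : F →+* F} (hσ : ∀ a, σ a = a ^ q) (B : V →ₛₗ[σ] V →ₗ[F] F) (hS : B.IsSymm) (hB : B.Nondegenerate)
    (hV : Module.finrank F V = n) :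
    ∃ f : isoS B →* PSU n F q, ∀ T, f T = 1 ↔ ∃ c : F, (T : Module.End F V) = c • (1 : Module.End F V) := by
  classical
  subst hV
  have hσ2 : ∀ a : F, σ (σ a) = a := by
    intro a
    rw [hσ, hσ, ← pow_mul, ← sq, ← hF, FiniteField.pow_card]
  obtain ⟨b, hb⟩ := S0755.result σ (sigma_ne hF hσ) hσ2 B hS hB
  have hherm : ∀ x y : V, hermForm (Module.finrank F V) F q (b.repr x) (b.repr y) = B y x := by
    intro x y
    have h1 : B y x = B (∑ i, b.repr y i • b i) (∑ j, b.repr x j • b j) := by
      rw [b.sum_repr, b.sum_repr]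
    rw [h1, map_sum B, LinearMap.sum_apply]
    rw [hermForm]
    refine Finset.sum_congr rfl fun i _ => ?_
    rw [LinearMap.map_smulₛₗ₂, map_sum]
    have h2 : ∀ j ∈ Finset.univ, j ≠ i → B (b i) (b.repr x j • b j) = 0 := by
      intro j _ hj
      rw [map_smul, hb, if_neg (Ne.symm hj), smul_zero]
    rw [Finset.sum_eq_single i h2 (by simp), map_smul, hb, if_pos rfl, hσ, smul_eq_mul, smul_eq_mul, mul_one,
      mul_comm]
  have hdet : ∀ T : isoS B, (LinearMap.toMatrixAlgEquiv b (T : Module.End F V)).det = 1 := by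
    intro T
    have h1 := (mem_isoS.1 T.2).2
    rw [← LinearMap.det_toMatrix b] at h1
    exact h1
  have hmem : ∀ T : isoS B, (⟨LinearMap.toMatrixAlgEquiv b (T : Module.End F V), hdet T⟩ :
      Matrix.SpecialLinearGroup (Fin (Module.finrank F V)) F) ∈ SU (Module.finrank F V) F q := by
    intro T
    refine (Cfsg.Agent.LieClassical.HermBasic.mem_SU_iff _).2 fun u v => ?_
    obtain ⟨x, rfl⟩ := b.equivFun.surjective u
    obtain ⟨y, rfl⟩ := b.equivFun.surjective v
    have h2 : ∀ z : V, (LinearMap.toMatrixAlgEquiv b (T : Module.End F V)) *ᵥ (b.repr z) =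
        b.repr ((T : Module.End F V) z) := fun z => LinearMap.toMatrix_mulVec_repr b b _ z
    change hermForm _ F q (LinearMap.toMatrixAlgEquiv b (T : Module.End F V) *ᵥ b.repr x)
      (LinearMap.toMatrixAlgEquiv b (T : Module.End F V) *ᵥ b.repr y) = hermForm _ F q (b.repr x) (b.repr y)
    rw [h2, h2, hherm, hherm, (mem_isoS.1 T.2).1]
  let g : isoS B →* SU (Module.finrank F V) F q :=
    { toFun := fun T => ⟨⟨LinearMap.toMatrixAlgEquiv b (T : Module.End F V), hdet T⟩, hmem T⟩
      map_one' := by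
        apply Subtype.ext
        apply Subtype.ext
        exact map_one (LinearMap.toMatrixAlgEquiv b)
      map_mul' := fun S T => by
        apply Subtype.ext
        apply Subtype.ext
        exact map_mul (LinearMap.toMatrixAlgEquiv b) _ _ }
  have hg : ∀ T : isoS B, (((g T : SU _ F q) : Matrix.SpecialLinearGroup (Fin (Module.finrank F V)) F) :
      Matrix (Fin (Module.finrank F V)) (Fin (Module.finrank F V)) F) =
      LinearMap.toMatrixAlgEquiv b (T : Module.End F V) := fun T => rfl
  refine ⟨(Cfsg.Agent.ClassicalGeometry.PSUAutBasic.pr _ F q).comp g, fun T => ?_⟩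
  have h3 := H403.psu_pow_iff hF hn (g T) 1
  rw [pow_one, pow_one, hg] at h3
  have h4 : ((Cfsg.Agent.ClassicalGeometry.PSUAutBasic.pr _ F q).comp g) T =
      (QuotientGroup.mk (g T) : PSU (Module.finrank F V) F q) := rfl
  rw [h4, h3]
  constructor
  · rintro ⟨c, hc⟩
    refine ⟨c, (LinearMap.toMatrixAlgEquiv b).injective ?_⟩
    rw [hc, map_smul, map_one]
  · rintro ⟨c, hc⟩
    exact ⟨c, by rw [hc, map_smul, map_one]⟩

end lift

end Cfsg.Agent.H892.SUCov
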