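import Cfsg.Agent.H892.SUCov.LiftSU
import Cfsg.Agent.H356.U3.UI
import Cfsg.Agent.S0283

/-!
# S3464, T1: regular unipotent elements of `SU_{3^i+1}(3)` (helper892)
-/

set_option autoImplicit false
set_option linter.unusedSectionVars false

namespace Cfsg.Agent.H892.SUCov

open Cfsg Matrix

section Nilp

variable {F : Type*} [Field F] {k : ℕ}

/-- the shift -/
def sh (F : Type*) [Field F] (k : ℕ) : Module.End F (Fin k → F) where
  toFun x a := if h : 0 < a.1 then x ⟨a.1 - 1, by omega⟩ else 0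
  map_add' x y := by
    funext a
    simp only [Pi.add_apply]
    split_ifs <;> simp
  map_smul' c x := by
    funext a
    simp only [Pi.smul_apply, RingHom.id_apply]
    split_ifs <;> simp

theorem sh_apply (x : Fin k → F) (a : Fin k) :
    sh F k x a = if h : 0 < a.1 then x ⟨a.1 - 1, by omega⟩ else 0 := rfl

theorem sh_pow (j : ℕ) (x : Fin k → F) (a : Fin k) :
    (sh F k ^ j) x a = if h : j ≤ a.1 then x ⟨a.1 - j, by omega⟩ else 0 := by
  induction j generalizing x a with
  | zero => simp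
  | succ j ih =>
    rw [pow_succ, Module.End.mul_apply, ih]
    by_cases h : j ≤ a.1
    · rw [dif_pos h, sh_apply]
      by_cases h2 : j + 1 ≤ a.1
      · rw [dif_pos (by show 0 < a.1 - j; omega), dif_pos h2]
        congr 1
      · rw [dif_neg (by show ¬ 0 < a.1 - j; omega), dif_neg h2]
    · rw [dif_neg h, dif_neg (by omega)]

theorem sh_pow_self : sh F k ^ k = 0 := by
  apply LinearMap.ext
  intro x
  funext a
  rw [sh_pow, dif_neg (by omega)]
  rfl

theorem sh_pow_ne {j : ℕ} (hj : j < k) : sh F k ^ j ≠ 0 := by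
  intro h
  have h1 : (sh F k ^ j) (fun _ => 1) ⟨j, hj⟩ = 0 := by rw [h]; rfl
  rw [sh_pow, dif_pos (le_refl j)] at h1
  exact one_ne_zero h1

end Nilp

section Form

variable {F : Type*} [Field F] {k : ℕ} {σ : F →+* F}

/-- the form `∑ s a σ(x a) y (rev a)`, `s a = (-1) ^ a c` -/
def ff (σ : F →+* F) (k : ℕ) (c : F) : (Fin k → F) →ₛₗ[σ] (Fin k → F) →ₗ[F] F :=
  LinearMap.mk₂'ₛₗ σ (RingHom.id F) (fun x y => ∑ a : Fin k, (-1) ^ a.1 * c * σ (x a) * y a.rev)
    (by
      intro x x' y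
      rw [← Finset.sum_add_distrib]
      exact Finset.sum_congr rfl fun a _ => by rw [Pi.add_apply, map_add]; ring)
    (by
      intro t x y
      rw [smul_eq_mul, Finset.mul_sum]
      exact Finset.sum_congr rfl fun a _ => by rw [Pi.smul_apply, smul_eq_mul, map_mul]; ring)
    (by
      intro x y y'
      rw [← Finset.sum_add_distrib]
      exact Finset.sum_congr rfl fun a _ => by rw [Pi.add_apply]; ring)
    (by
      intro t x y
      rw [smul_eq_mul, Finset.mul_sum]
      exact Finset.sum_congr rfl fun a _ => by rw [Pi.smul_apply, smul_eq_mul, RingHom.id_apply]; ring)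

theorem ff_apply (c : F) (x y : Fin k → F) :
    ff σ k c x y = ∑ a : Fin k, (-1) ^ a.1 * c * σ (x a) * y a.rev := rfl

theorem neg_one_pow_rev (hk : Even k) (a : Fin k) : ((-1 : F)) ^ (a.rev).1 = -(-1) ^ a.1 := by
  have h1 : (a.rev).1 + a.1 = k - 1 := by
    rw [Fin.val_rev]; omega
  have h2 : Odd ((a.rev).1 + a.1) := by
    rw [h1]
    obtain ⟨j, hj⟩ := hk
    have := a.2
    exact ⟨j - 1, by omega⟩
  have h3 : ((-1 : F)) ^ (a.rev).1 * (-1) ^ a.1 = -1 := by rw [← pow_add, h2.neg_one_pow]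
  have h4 : ((-1 : F)) ^ a.1 * (-1) ^ a.1 = 1 := by rw [← mul_pow]; simp
  calc ((-1 : F)) ^ (a.rev).1 = (-1) ^ (a.rev).1 * ((-1) ^ a.1 * (-1) ^ a.1) := by rw [h4, mul_one]
    _ = -(-1) ^ a.1 := by rw [← mul_assoc, h3]; ring

theorem ff_symm (hσ : ∀ a, σ (σ a) = a) (hk : Even k) {c : F} (hc : σ c = -c) (x y : Fin k → F) :
    σ (ff σ k c x y) = ff σ k c y x := by
  rw [ff_apply, ff_apply, map_sum, ← Equiv.sum_comp Fin.revPerm]
  refine Finset.sum_congr rfl fun a _ => ?_
  rw [Fin.revPerm_apply, Fin.rev_rev, map_mul, map_mul, map_mul, hσ, map_pow, map_neg, map_one, hc,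
    neg_one_pow_rev hk]
  ring

theorem ff_sep {c : F} (hc : c ≠ 0) {x : Fin k → F} (h : ∀ y, ff σ k c x y = 0) : x = 0 := by
  funext a
  have h1 := h (Pi.single a.rev 1)
  rw [ff_apply, Finset.sum_eq_single a] at h1
  · rw [Pi.single_eq_same, mul_one] at h1
    have h2 : ((-1 : F)) ^ a.1 * c ≠ 0 := mul_ne_zero (pow_ne_zero _ (neg_ne_zero.2 one_ne_zero)) hc
    exact (map_eq_zero σ).1 ((mul_eq_zero.1 h1).resolve_left h2)
  · intro b _ hb
    rw [Pi.single_eq_of_ne (fun h => hb (Fin.rev_injective h)), mul_zero]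
  · intro h2
    exact absurd (Finset.mem_univ _) h2

theorem ff_shift (c : F) (x y : Fin k → F) : ff σ k c (sh F k x) y + ff σ k c x (sh F k y) = 0 := by
  obtain _ | m := k
  · rw [ff_apply, ff_apply]; simp
  rw [ff_apply, ff_apply, Fin.sum_univ_succ, Fin.sum_univ_castSucc]
  have h0 : sh F (m + 1) x 0 = 0 := by rw [sh_apply, dif_neg (by simp)]
  have h1 : sh F (m + 1) y (Fin.last m).rev = 0 := by
    rw [Fin.rev_last, sh_apply, dif_neg (by simp)]
  rw [h0, h1, map_zero, mul_zero, mul_zero, zero_mul, zero_add, add_zero, ← Finset.sum_add_distrib]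
  apply Finset.sum_eq_zero
  intro a _
  have h2 : sh F (m + 1) x a.succ = x a.castSucc := by
    rw [sh_apply, dif_pos (by simp)]
    congr 1
  have h3 : sh F (m + 1) y a.castSucc.rev = y a.succ.rev := by
    rw [sh_apply, dif_pos (by rw [Fin.val_rev, Fin.val_castSucc]; omega)]
    congr 1
  rw [h2, h3, Fin.val_succ, Fin.val_castSucc, pow_succ]
  ring

end Form

section Cayley

variable {F : Type*} [Field F] [Finite F] {k : ℕ} {σ : F →+* F}

/-- the inverse of `1 - N` -/
def gs (F : Type*) [Field F] (k : ℕ) : Module.End F (Fin k → F) := ∑ j ∈ Finset.range k, sh F k ^ j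

theorem gs_mul : gs F k * (1 - sh F k) = 1 := by
  have h := geom_sum_mul_neg (sh F k) k
  rw [sh_pow_self, sub_zero] at h
  exact h

theorem mul_gs : (1 - sh F k) * gs F k = 1 := by
  have h := mul_neg_geom_sum (sh F k) k
  rw [sh_pow_self, sub_zero] at h
  exact h

theorem gs_comm : Commute (sh F k) (gs F k) := by
  unfold gs
  exact Commute.sum_right _ _ _ fun j _ => (Commute.refl (sh F k)).pow_right j

/-- the Cayley transform -/
def cay (F : Type*) [Field F] (k : ℕ) : Module.End F (Fin k → F) := (1 + sh F k) * gs F k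

theorem cay_sub_one : cay F k - 1 = 2 * (sh F k * gs F k) := by
  have h : cay F k - 1 = (1 + sh F k) * gs F k - (1 - sh F k) * gs F k := by rw [mul_gs]; rfl
  have h2 : (1 + sh F k) - (1 - sh F k) = 2 * sh F k := by rw [two_mul]; abel
  rw [h, ← sub_mul, h2, mul_assoc]

theorem cay_isometry (c : F) (x y : Fin k → F) : ff σ k c (cay F k x) (cay F k y) = ff σ k c x y := by
  have h : ∀ z : Fin k → F, ∃ z', z = (1 - sh F k) z' ∧ cay F k z = (1 + sh F k) z' := by
    intro z
    refine ⟨gs F k z, ?_, rfl⟩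
    rw [← Module.End.mul_apply, mul_gs]
    rfl
  obtain ⟨x', hx1, hx2⟩ := h x
  obtain ⟨y', hy1, hy2⟩ := h y
  have h3 := ff_shift (σ := σ) c x' y'
  rw [hx2, hy2, hx1, hy1]
  have e1 : ∀ z : Fin k → F, (1 + sh F k) z = z + sh F k z := fun z => rfl
  have e2 : ∀ z : Fin k → F, (1 - sh F k) z = z - sh F k z := fun z => rfl
  rw [e1, e1, e2, e2]
  simp only [map_add, map_sub, LinearMap.add_apply, LinearMap.sub_apply]
  linear_combination 2 * h3

/-- in characteristic three -/
theorem cay_pow_sub [CharP F 3] [NeZero k] (j : ℕ) :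
    cay F k ^ 3 ^ j - 1 = 2 ^ 3 ^ j * (sh F k ^ 3 ^ j * gs F k ^ 3 ^ j) := by
  have : Fact (Nat.Prime 3) := ⟨Nat.prime_three⟩
  have : Nontrivial (Fin k → F) := inferInstance
  have hch : CharP (Module.End F (Fin k → F)) 3 :=
    charP_of_injective_algebraMap (algebraMap F (Module.End F (Fin k → F))).injective 3
  have h1 : (cay F k - 1) ^ 3 ^ j = cay F k ^ 3 ^ j - 1 := by
    rw [sub_pow_char_pow_of_commute _ _ (Commute.one_right _), one_pow]
  rw [← h1, cay_sub_one, (Commute.ofNat_left 2 (sh F k * gs F k)).mul_pow, (gs_comm (F := F) (k := k)).mul_pow]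

end Cayley

section SU

variable {F : Type*} [Field F] [Fintype F] [CharP F 3]

theorem exists_I (hF : Fintype.card F = 9) : ∃ I : F, I * I = -1 := by
  obtain ⟨z, hz⟩ := IsCyclic.exists_ofOrder_eq_natCard (α := Fˣ)
  rw [Nat.card_units, Nat.card_eq_fintype_card, hF] at hz
  refine ⟨((z ^ 2 : Fˣ) : F), ?_⟩
  have h1 : (((z ^ 4 : Fˣ) : F) - 1) * (((z ^ 4 : Fˣ) : F) + 1) = 0 := by
    have h2 : ((z ^ 4 : Fˣ) : F) * ((z ^ 4 : Fˣ) : F) = 1 := by
      rw [← Units.val_mul, ← pow_add]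
      have h3 : z ^ (4 + 4) = 1 := by rw [show 4 + 4 = orderOf z from hz.symm]; exact pow_orderOf_eq_one z
      rw [h3, Units.val_one]
    linear_combination h2
  rcases mul_eq_zero.1 h1 with h2 | h2
  · exfalso
    have h3 : z ^ 4 = 1 := Units.ext (by rw [Units.val_one]; exact sub_eq_zero.1 h2)
    have h4 := orderOf_dvd_of_pow_eq_one h3
    rw [hz] at h4
    exact absurd (Nat.le_of_dvd (by norm_num) h4) (by norm_num)
  · rw [← Units.val_mul, ← pow_add]
    exact eq_neg_of_add_eq_zero_left h2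

theorem exists_unip_SU (hF : Fintype.card F = 9) (i : ℕ) :
    ∃ v : SU (3 ^ i + 1) F 3, v ^ 3 ^ (i + 1) = 1 ∧ v ^ 3 ^ i ≠ 1 := by
  have : Fact (Nat.Prime 3) := ⟨Nat.prime_three⟩
  have hF' : Fintype.card F = 3 ^ 2 := by rw [hF]; norm_num
  set k := 3 ^ i + 1 with hk
  have : NeZero k := ⟨Nat.succ_ne_zero _⟩
  have hke : Even k := by
    rw [hk]
    exact (Odd.pow (by decide : Odd 3)).add_one
  obtain ⟨c, hc⟩ := exists_I hF
  have hc0 : c ≠ 0 := by
    rintro rfl
    rw [mul_zero] at hc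
    exact one_ne_zero (neg_eq_zero.1 hc.symm)
  let σ : F →+* F := frobenius F 3
  have hσ : ∀ a, σ a = a ^ 3 := fun a => rfl
  have hσσ : ∀ a, σ (σ a) = a := by
    intro a
    rw [hσ, hσ, ← pow_mul, show 3 * 3 = Fintype.card F by rw [hF], FiniteField.pow_card]
  have hσc : σ c = -c := by rw [hσ]; linear_combination c * hc
  have hp1 : cay F k ^ 3 ^ (i + 1) = 1 := by
    have h1 := cay_pow_sub (F := F) (k := k) (i + 1)
    have h2 : sh F k ^ 3 ^ (i + 1) = 0 := by
      have h3 : 3 ^ (i + 1) = k + (2 * 3 ^ i - 1) := by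
        have : 1 ≤ 3 ^ i := Nat.one_le_pow _ _ (by norm_num)
        rw [hk, pow_succ]; omega
      rw [h3, pow_add, sh_pow_self, zero_mul]
    rw [h2, zero_mul, mul_zero] at h1
    exact sub_eq_zero.1 h1
  have hp2 : cay F k ^ 3 ^ i ≠ 1 := by
    intro h
    have h1 := cay_pow_sub (F := F) (k := k) i
    rw [h, sub_self] at h1
    have h3 : (2 : Module.End F (Fin k → F)) * 2 = 1 := by
      have hch : CharP (Module.End F (Fin k → F)) 3 :=
        charP_of_injective_algebraMap (algebraMap F (Module.End F (Fin k → F))).injective 3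
      have h4 : (3 : Module.End F (Fin k → F)) = 0 := by exact_mod_cast CharP.cast_eq_zero (Module.End F (Fin k → F)) 3
      calc (2 : Module.End F (Fin k → F)) * 2 = 3 + 1 := by norm_num
        _ = 1 := by rw [h4, zero_add]
    have h4 : sh F k ^ 3 ^ i = 0 := by
      have h5 : (2 : Module.End F (Fin k → F)) ^ 3 ^ i * 2 ^ 3 ^ i = 1 := by
        rw [← (Commute.refl (2 : Module.End F (Fin k → F))).mul_pow, h3, one_pow]
      have h6 : gs F k ^ 3 ^ i * (1 - sh F k) ^ 3 ^ i = 1 := by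
        have hcm : Commute (gs F k) (1 - sh F k) :=
          ((Commute.one_left (gs F k)).sub_left gs_comm).symm
        rw [← hcm.mul_pow, gs_mul, one_pow]
      calc sh F k ^ 3 ^ i = 2 ^ 3 ^ i * (2 ^ 3 ^ i * (sh F k ^ 3 ^ i * gs F k ^ 3 ^ i)) * (1 - sh F k) ^ 3 ^ i := by
            rw [← mul_assoc (2 ^ 3 ^ i), h5, one_mul, mul_assoc, h6, mul_one]
        _ = 0 := by rw [← h1, mul_zero, zero_mul]
    exact sh_pow_ne (by omega) h4
  have hdet : LinearMap.det (cay F k) = 1 := by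
    have h1 : (LinearMap.det (cay F k)) ^ 3 ^ (i + 1) = 1 := by rw [← map_pow, hp1, map_one]
    apply iterateFrobenius_inj F 3 (i + 1)
    rw [iterateFrobenius_def, iterateFrobenius_def, h1, one_pow]
  obtain ⟨f, hf⟩ := exists_liftSU (V := Fin k → F) (n := k) hF' hσ (ff σ k c)
    ⟨fun x y => ff_symm hσσ hke hσc x y⟩
    ⟨fun _ hx => ff_sep hc0 hx, fun y hy => ff_sep hc0 fun x => by rw [← ff_symm hσσ hke hσc, hy x, map_zero]⟩
    (by rw [Module.finrank_fin_fun])
  let T : isoS (ff σ k c) := ⟨cay F k, fun x y => cay_isometry c x y, hdet⟩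
  refine ⟨f T, ?_, ?_⟩
  · rw [← map_pow]
    have h1 : T ^ 3 ^ (i + 1) = 1 := Subtype.ext hp1
    rw [h1, map_one]
  · rw [← map_pow]
    intro h
    rw [← map_one f] at h
    exact hp2 (congrArg Subtype.val (hf h))

end SU

end Cfsg.Agent.H892.SUCov
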